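import Mathlib.GroupTheory.Sylow
import Mathlib.GroupTheory.Subgroup.Centralizer
import Mathlib.GroupTheory.Nilpotent
import Cfsg.Agent.Char.Central

/-!
# Strongly self-centralizing subgroups: group-theoretic basics
-/

set_option autoImplicit false

namespace Cfsg.Lib.SCS

open Subgroup

variable {G : Type*} [Group G]

/-- `A` is the centralizer of each of its non-identity elements. -/
def SSC (A : Subgroup G) : Prop := ∀ a ∈ A, a ≠ 1 → centralizer ({a} : Set G) = A

/-- `g` is conjugate to a non-identity element of `A`. -/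
def Cl (A : Subgroup G) (g : G) : Prop := g ≠ 1 ∧ ∃ x : G, x * g * x⁻¹ ∈ A

theorem conj_ne_one {g : G} (hg : g ≠ 1) (x : G) : x * g * x⁻¹ ≠ 1 := fun h => hg (by
  have : g = x⁻¹ * (x * g * x⁻¹) * x := by group
  rw [this, h]; group)

theorem Cl.conj {A : Subgroup G} {g : G} (h : Cl A g) (y : G) : Cl A (y * g * y⁻¹) := by
  obtain ⟨h1, x, hx⟩ := h
  exact ⟨conj_ne_one h1 y, x * y⁻¹, by simpa [mul_assoc] using hx⟩

theorem cl_conj_iff {A : Subgroup G} {g : G} (y : G) : Cl A (y * g * y⁻¹) ↔ Cl A g :=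
  ⟨fun h => by simpa [mul_assoc] using h.conj y⁻¹, fun h => h.conj y⟩

theorem cl_of_mem {A : Subgroup G} {g : G} (hg : g ∈ A) (h1 : g ≠ 1) : Cl A g :=
  ⟨h1, 1, by simpa using hg⟩

theorem not_cl_one (A : Subgroup G) : ¬ Cl A 1 := fun h => h.1 rfl

theorem card_centralizer_conj (g x : G) :
    Nat.card (centralizer ({x * g * x⁻¹} : Set G)) = Nat.card (centralizer ({g} : Set G)) := by
  refine Nat.card_congr ⟨fun y => ⟨x⁻¹ * y * x, ?_⟩, fun y => ⟨x * y * x⁻¹, ?_⟩, fun y => ?_,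
    fun y => ?_⟩
  · have := mem_centralizer_singleton_iff.1 y.2
    rw [mem_centralizer_singleton_iff]
    calc x⁻¹ * y * x * g = x⁻¹ * (y * (x * g * x⁻¹)) * x := by group
      _ = g * (x⁻¹ * y * x) := by rw [this]; group
  · have := mem_centralizer_singleton_iff.1 y.2
    rw [mem_centralizer_singleton_iff]
    calc x * y * x⁻¹ * (x * g * x⁻¹) = x * (y * g) * x⁻¹ := by group
      _ = x * g * x⁻¹ * (x * y * x⁻¹) := by rw [this]; group
  · ext; simp [mul_assoc]
  · ext; simp [mul_assoc]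

/-- A conjugation-invariant finite set all of whose class sizes are divisible by `d`. -/
theorem dvd_card_of_conj [Finite G] (S : Finset G) (hS : ∀ s ∈ S, ∀ x : G, x * s * x⁻¹ ∈ S) {d : ℕ}
    (hd : ∀ s ∈ S, d ∣ (centralizer ({s} : Set G)).index) : d ∣ S.card := by
  classical
  have := Fintype.ofFinite G
  rw [Finset.card_eq_sum_card_image (fun s => ConjClasses.mk s) S]
  refine Finset.dvd_sum fun c hc => ?_
  obtain ⟨s, hs, rfl⟩ := Finset.mem_image.1 hc
  have : S.filter (fun a => ConjClasses.mk a = ConjClasses.mk s) = Finset.univ.filter (IsConj s) := by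
    ext a
    simp only [Finset.mem_filter, Finset.mem_univ, true_and, ConjClasses.mk_eq_mk_iff_isConj]
    refine ⟨fun h => h.2.symm, fun h => ⟨?_, h.symm⟩⟩
    obtain ⟨x, rfl⟩ := isConj_iff.1 h
    exact hS s hs x
  rw [this, Char.card_filter_isConj]
  exact hd s hs

namespace SSC

variable {A B : Subgroup G}

theorem mem_of_comm (h : SSC A) {a g : G} (ha : a ∈ A) (h1 : a ≠ 1) (hc : g * a = a * g) : g ∈ A := by
  rw [← h a ha h1]; exact mem_centralizer_singleton_iff.2 hc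

theorem comm (h : SSC A) {a b : G} (ha : a ∈ A) (hb : b ∈ A) : a * b = b * a := by
  by_cases h1 : b = 1
  · simp [h1]
  · rw [← h b hb h1] at ha; exact mem_centralizer_singleton_iff.1 ha

theorem comm' (h : SSC A) (a b : A) : a * b = b * a := Subtype.ext (h.comm a.2 b.2)

theorem mem_normalizer (h : SSC A) {a g : G} (ha : a ∈ A) (h1 : a ≠ 1) (hg : g * a * g⁻¹ ∈ A) :
    g ∈ normalizer (A : Set G) := by
  rw [mem_normalizer_iff]
  intro b
  constructor
  · intro hb
    refine h.mem_of_comm hg (conj_ne_one h1 g) ?_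
    calc g * b * g⁻¹ * (g * a * g⁻¹) = g * (b * a) * g⁻¹ := by group
      _ = g * a * g⁻¹ * (g * b * g⁻¹) := by rw [h.comm hb ha]; group
  · intro hb
    refine h.mem_of_comm ha h1 ?_
    have := h.comm hb hg
    calc b * a = g⁻¹ * (g * b * g⁻¹ * (g * a * g⁻¹)) * g := by group
      _ = a * b := by rw [this]; group

theorem conj_mem {x a : G} (hx : x ∈ normalizer (A : Set G)) (ha : a ∈ A) : x * a * x⁻¹ ∈ A :=
  (mem_normalizer_iff.1 hx a).1 ha

variable [Finite G]

theorem card_centralizer (h : SSC A) {y : G} (hy : Cl A y) :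
    Nat.card (centralizer ({y} : Set G)) = Nat.card A := by
  obtain ⟨h1, x, hx⟩ := hy
  rw [← card_centralizer_conj y x, h _ hx (conj_ne_one h1 x)]

theorem exists_sylow_le (h : SSC A) {p : ℕ} [hp : Fact p.Prime] (hd : p ∣ Nat.card A) :
    ∃ S : Sylow p G, (S : Subgroup G) ≤ A := by
  obtain ⟨a, ha⟩ := exists_prime_orderOf_dvd_card' p hd
  have ha1 : (a : G) ≠ 1 := fun h1 => by
    have : a = 1 := Subtype.ext h1
    rw [this, orderOf_one] at ha
    exact hp.out.one_lt.ne ha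
  have hP : IsPGroup p (zpowers (a : G)) :=
    IsPGroup.of_card (n := 1) (by rw [Nat.card_zpowers, Subgroup.orderOf_coe, ha, pow_one])
  obtain ⟨S, hS⟩ := hP.exists_le_sylow
  have haS : (a : G) ∈ (S : Subgroup G) := hS (mem_zpowers _)
  have : Nontrivial S := ⟨⟨⟨a, haS⟩, 1, fun h1 => ha1 (congrArg Subtype.val h1)⟩⟩
  have := S.isPGroup'.center_nontrivial
  obtain ⟨⟨z, hz⟩, hz1⟩ := exists_ne (1 : center S)
  have hz1' : (z : G) ≠ 1 := fun h1 => hz1 (Subtype.ext (Subtype.ext h1))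
  have hc : ∀ s ∈ (S : Subgroup G), s * z = z * s := fun s hs =>
    congrArg Subtype.val (mem_center_iff.1 hz ⟨s, hs⟩)
  have hzA : (z : G) ∈ A := h.mem_of_comm a.2 ha1 (hc a haS).symm
  exact ⟨S, fun s hs => h.mem_of_comm hzA hz1' (hc s hs)⟩

theorem coprime_index (h : SSC A) : (Nat.card A).Coprime A.index := by
  refine Nat.Coprime.symm (Nat.coprime_of_dvd fun p hp h1 h2 => ?_)
  have := Fact.mk hp
  obtain ⟨S, hS⟩ := h.exists_sylow_le h2
  exact S.not_dvd_index (h1.trans (index_dvd_of_le hS))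

theorem exists_conj_mem (h : SSC A) {p : ℕ} (hp : p.Prime) (hd : p ∣ Nat.card A) {w : G}
    (hw : orderOf w = p) : ∃ x : G, x * w * x⁻¹ ∈ A := by
  have := Fact.mk hp
  obtain ⟨S, hS⟩ := h.exists_sylow_le hd
  have hP : IsPGroup p (zpowers w) :=
    IsPGroup.of_card (n := 1) (by rw [Nat.card_zpowers, hw, pow_one])
  obtain ⟨T, hT⟩ := hP.exists_le_sylow
  obtain ⟨x, hx⟩ := MulAction.exists_smul_eq G T S
  refine ⟨x, hS ?_⟩
  rw [← hx, Sylow.coe_subgroup_smul]
  exact smul_mem_pointwise_smul w (MulAut.conj x) _ (hT (mem_zpowers w))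

theorem coprime_centralizer (h : SSC A) {y : G} (h1 : y ≠ 1) (hy : ¬ Cl A y) :
    (Nat.card (centralizer ({y} : Set G))).Coprime (Nat.card A) := by
  refine Nat.coprime_of_dvd fun p hp hd1 hd2 => hy ⟨h1, ?_⟩
  have := Fact.mk hp
  obtain ⟨w, hw⟩ := exists_prime_orderOf_dvd_card' p hd1
  have hw' : orderOf (w : G) = p := by rw [Subgroup.orderOf_coe, hw]
  obtain ⟨x, hx⟩ := h.exists_conj_mem hp hd2 hw'
  have hw1 : (w : G) ≠ 1 := fun h1 => by
    rw [h1, orderOf_one] at hw'; exact hp.one_lt.ne hw'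
  refine ⟨x, h.mem_of_comm hx (conj_ne_one hw1 x) ?_⟩
  have := mem_centralizer_singleton_iff.1 w.2
  calc x * y * x⁻¹ * (x * w * x⁻¹) = x * (y * w) * x⁻¹ := by group
    _ = _ := by rw [← this]; group

theorem dvd_index (h : SSC A) {y : G} (h1 : y ≠ 1) (hy : ¬ Cl A y) :
    Nat.card A ∣ (centralizer ({y} : Set G)).index := by
  refine (h.coprime_centralizer h1 hy).symm.dvd_of_dvd_mul_left ?_
  rw [card_mul_index]
  exact card_subgroup_dvd_card A

omit [Finite G] in
theorem not_cl (hA : SSC A) (hB : SSC B) (hnc : ∀ g : G, A.map (MulAut.conj g).toMonoidHom ≠ B)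
    {y : G} (hy : Cl A y) : ¬ Cl B y := by
  rintro ⟨h1, z, hz⟩
  obtain ⟨-, x, hx⟩ := hy
  refine hnc (z * x⁻¹) ?_
  ext b
  simp only [mem_map, MulEquiv.coe_toMonoidHom, MulAut.conj_apply]
  constructor
  · rintro ⟨a, ha, rfl⟩
    refine hB.mem_of_comm hz (conj_ne_one h1 z) ?_
    have := hA.comm ha hx
    calc z * x⁻¹ * a * (z * x⁻¹)⁻¹ * (z * y * z⁻¹)
        = z * x⁻¹ * (a * (x * y * x⁻¹)) * (z * x⁻¹)⁻¹ := by group
      _ = _ := by rw [this]; group
  · intro hb
    refine ⟨(z * x⁻¹)⁻¹ * b * (z * x⁻¹), hA.mem_of_comm hx (conj_ne_one h1 x) ?_, by group⟩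
    have := hB.comm hb hz
    calc (z * x⁻¹)⁻¹ * b * (z * x⁻¹) * (x * y * x⁻¹)
        = (z * x⁻¹)⁻¹ * (b * (z * y * z⁻¹)) * (z * x⁻¹) := by group
      _ = _ := by rw [this]; group

theorem coprime_card (hA : SSC A) (hB : SSC B) (hd : ∀ y, Cl A y → ¬ Cl B y) :
    (Nat.card A).Coprime (Nat.card B) := by
  by_cases h : A = ⊥
  · simp [h]
  · obtain ⟨⟨a, ha⟩, ha1⟩ := ne_bot_iff_exists_ne_one.1 h
    have h1 : a ≠ 1 := fun h1 => ha1 (Subtype.ext h1)
    have := hB.coprime_centralizer h1 (hd a (cl_of_mem ha h1))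
    rwa [hA a ha h1] at this

/-- An element of `N(A) \ A` acts fixed-point-freely. -/
theorem exists_comm (h : SSC A) {x : G} (hx : x ∈ normalizer (A : Set G)) (hxA : x ∉ A) (a : A) :
    ∃ b : A, x * b * x⁻¹ * (b : G)⁻¹ = a := by
  let f : A → A := fun b => ⟨x * b * x⁻¹ * (b : G)⁻¹, A.mul_mem (conj_mem hx b.2) (A.inv_mem b.2)⟩
  have hf : Function.Injective f := by
    intro b c hbc
    have e : x * b * x⁻¹ * (b : G)⁻¹ = x * c * x⁻¹ * (c : G)⁻¹ := congrArg Subtype.val hbc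
    by_contra hne
    refine hxA (h.mem_of_comm (a := (c : G)⁻¹ * b) (A.mul_mem (A.inv_mem c.2) b.2)
      (fun h1 => hne (Subtype.ext (inv_mul_eq_one.1 h1).symm)) ?_)
    have e2 : x * b * x⁻¹ = x * c * x⁻¹ * (c : G)⁻¹ * b := by rw [← e]; group
    calc x * ((c : G)⁻¹ * b) = (x * c * x⁻¹)⁻¹ * (x * b * x⁻¹) * x := by group
      _ = _ := by rw [e2]; group
  obtain ⟨b, hb⟩ := Finite.injective_iff_surjective.1 hf a
  exact ⟨b, congrArg Subtype.val hb⟩

omit [Finite G] in
theorem inverts (h : SSC A) {x : G} (hx : x ∈ normalizer (A : Set G)) (hxA : x ∉ A)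
    (hx2 : x * x ∈ A) {a : G} (ha : a ∈ A) : x * a * x⁻¹ = a⁻¹ := by
  by_contra hne
  have hm := conj_mem hx ha
  refine hxA (h.mem_of_comm (A.mul_mem ha hm) (fun h1 => hne (eq_inv_of_mul_eq_one_right h1)) ?_)
  have e1 := h.comm hx2 ha
  have e2 := h.comm ha hm
  calc x * (a * (x * a * x⁻¹)) = x * a * x⁻¹ * (x * x * a) * x⁻¹ := by group
    _ = x * a * x⁻¹ * a * x := by rw [e1]; group
    _ = _ := by rw [← e2]

theorem relIndex_dvd (h : SSC A) : A.relIndex (normalizer (A : Set G)) ∣ Nat.card A - 1 := by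
  classical
  set N := normalizer (A : Set G)
  have := Fintype.ofFinite N
  have := Fintype.ofFinite A
  let S : Finset N := Finset.univ.filter fun g => (g : G) ∈ A ∧ g ≠ 1
  have hS : S.card = Nat.card A - 1 := by
    rw [Nat.card_eq_fintype_card, ← Finset.card_univ, ← Finset.card_erase_of_mem (Finset.mem_univ 1)]
    refine Finset.card_bij (fun g hg => ⟨g, (Finset.mem_filter.1 hg).2.1⟩) (fun g hg => ?_)
      (fun a _ b _ hab => Subtype.ext (congrArg Subtype.val hab :)) (fun a ha => ?_)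
    · exact Finset.mem_erase.2 ⟨fun h1 => (Finset.mem_filter.1 hg).2.2
        (Subtype.ext (congrArg Subtype.val h1 :)), Finset.mem_univ _⟩
    · exact ⟨⟨a, le_normalizer a.2⟩, Finset.mem_filter.2 ⟨Finset.mem_univ _, a.2, fun h1 =>
        (Finset.mem_erase.1 ha).1 (Subtype.ext (congrArg Subtype.val h1 :))⟩, rfl⟩
  rw [← hS]
  refine dvd_card_of_conj S (fun s hs x => ?_) (fun s hs => ?_)
  · obtain ⟨-, h1, h2⟩ := Finset.mem_filter.1 hs
    exact Finset.mem_filter.2 ⟨Finset.mem_univ _, conj_mem x.2 h1, conj_ne_one h2 x⟩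
  · obtain ⟨-, h1, h2⟩ := Finset.mem_filter.1 hs
    have : centralizer ({s} : Set N) = A.subgroupOf N := by
      ext y
      rw [mem_centralizer_singleton_iff, mem_subgroupOf,
        ← h s h1 (fun h3 => h2 (Subtype.ext h3)), mem_centralizer_singleton_iff, Subtype.ext_iff]
      rfl
    rw [this]
    rfl

theorem odd_card (h : SSC A) (he : 2 ∣ A.relIndex (normalizer (A : Set G))) : Odd (Nat.card A) := by
  have h1 := he.trans h.relIndex_dvd
  have h2 : 0 < Nat.card A := Nat.card_pos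
  rw [Nat.odd_iff]; omega

omit [Finite G] in
theorem eq_one_of_sq [Finite A] (ho : Odd (Nat.card A)) {a : G} (ha : a ∈ A) (h2 : a * a = 1) :
    a = 1 := by
  obtain ⟨k, hk⟩ := ho
  have : a ^ Nat.card A = 1 := by
    have := pow_card_eq_one' (x := (⟨a, ha⟩ : A))
    exact congrArg Subtype.val this
  rwa [hk, pow_succ, pow_mul, pow_two, h2, one_pow, one_mul] at this

theorem card_normalizer (A : Subgroup G) :
    Nat.card (normalizer (A : Set G)) = A.relIndex (normalizer (A : Set G)) * Nat.card A := by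
  rw [relIndex, ← (A.subgroupOf _).index_mul_card,
    Nat.card_congr (subgroupOfEquivOfLe le_normalizer).toEquiv]

/-- An involution inverting `A`. -/
structure Inv (A : Subgroup G) (s : G) : Prop where
  sq : s * s = 1
  notMem : s ∉ A
  mem : s ∈ normalizer (A : Set G)
  inv : ∀ a ∈ A, s * a * s⁻¹ = a⁻¹

omit [Finite G] in
theorem Inv.ne_one {s : G} (h : Inv A s) : s ≠ 1 := fun h1 => h.notMem (h1 ▸ A.one_mem)

theorem inv_of (h : SSC A) (ho : Odd (Nat.card A)) {s : G} (hs : s ∈ normalizer (A : Set G))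
    (h1 : s ≠ 1) (h2 : s * s = 1) : Inv A s :=
  have hA : s ∉ A := fun hA => h1 (eq_one_of_sq ho hA h2)
  ⟨h2, hA, hs, fun _ ha => h.inverts hs hA (h2 ▸ A.one_mem) ha⟩

theorem exists_inv (h : SSC A) (he : 2 ∣ A.relIndex (normalizer (A : Set G))) : ∃ s, Inv A s := by
  obtain ⟨s, hs⟩ := exists_prime_orderOf_dvd_card' (G := normalizer (A : Set G)) 2
    (by rw [card_normalizer]; exact he.mul_right _)
  refine ⟨s, h.inv_of (h.odd_card he) s.2 (fun h1 => ?_) ?_⟩
  · have : s = 1 := Subtype.ext h1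
    rw [this, orderOf_one] at hs; omega
  · have := pow_orderOf_eq_one s
    rw [hs, pow_two] at this
    exact congrArg Subtype.val this

theorem exists_order_four (h : SSC A) (he : 4 ∣ A.relIndex (normalizer (A : Set G)))
    (hA : A ≠ ⊥) : ∃ g : G, g ^ 4 = 1 ∧ g ^ 2 ≠ 1 := by
  have ho := h.odd_card (dvd_trans (by norm_num) he)
  have : Fact (Nat.Prime 2) := ⟨Nat.prime_two⟩
  obtain ⟨P, hP⟩ := Sylow.exists_subgroup_card_pow_prime (G := normalizer (A : Set G)) 2 (n := 2)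
    (by rw [card_normalizer]; exact he.mul_right _)
  by_contra hne
  push Not at hne
  have hsq : ∀ u : P, ((u : normalizer (A : Set G)) : G) * (u : normalizer (A : Set G)) = 1 := by
    intro u
    rw [← pow_two]
    refine hne _ ?_
    have := pow_card_eq_one' (x := u)
    rw [hP] at this
    exact congrArg (fun y : P => ((y : normalizer (A : Set G)) : G)) this
  have hinv : ∀ u : P, u ≠ 1 → Inv A ((u : normalizer (A : Set G)) : G) := fun u hu =>
    h.inv_of ho (u : normalizer (A : Set G)).2 (fun h1 => hu (Subtype.ext (Subtype.ext h1))) (hsq u)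
  have := Fintype.ofFinite P
  obtain ⟨u, hu⟩ : ∃ u : P, u ≠ 1 := by
    have : Nontrivial P := Finite.one_lt_card_iff_nontrivial.1 (by rw [hP]; norm_num)
    exact exists_ne 1
  obtain ⟨v, hv1, hv2⟩ : ∃ v : P, v ≠ 1 ∧ v ≠ u⁻¹ := by
    classical
    by_contra hc
    push Not at hc
    have : (Finset.univ : Finset P) ⊆ {1, u⁻¹} := fun v _ => by
      by_cases h1 : v = 1
      · simp [h1]
      · simp [hc v h1]
    have h3 := Finset.card_le_card this
    rw [Finset.card_univ, ← Nat.card_eq_fintype_card, hP] at h3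
    have := Finset.card_le_two (a := (1 : P)) (b := u⁻¹)
    omega
  obtain ⟨⟨a, ha⟩, ha1⟩ := ne_bot_iff_exists_ne_one.1 hA
  have e1 := (hinv u hu).inv _ (A.inv_mem ha)
  have e2 := (hinv v hv1).inv a ha
  have e3 := (hinv (u * v) (fun h1 => hv2 (eq_inv_of_mul_eq_one_right h1))).inv a ha
  refine ha1 (Subtype.ext (eq_one_of_sq ho ha ?_))
  simp only [coe_mul] at e3
  rw [mul_inv_rev, show ∀ x y z : G, x * y * z * (y⁻¹ * x⁻¹) = x * (y * z * y⁻¹) * x⁻¹ from
    fun x y z => by group, e2, e1, inv_inv] at e3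
  exact mul_eq_one_iff_eq_inv.2 e3

omit [Finite G] in
theorem Inv.mul {s : G} (hs : Inv A s) {a : G} (ha : a ∈ A) : s * a * (s * a) = 1 := by
  have e := hs.inv a ha
  have e2 : s⁻¹ = s := inv_eq_of_mul_eq_one_right hs.sq
  rw [e2] at e
  calc s * a * (s * a) = s * a * s * a := by group
    _ = 1 := by rw [e]; group

omit [Finite G] in
theorem Inv.isConj [Finite A] {s : G} (hs : Inv A s) (ho : Odd (Nat.card A)) {a : G} (ha : a ∈ A) :
    IsConj s (s * a) := by
  obtain ⟨k, hk⟩ := ho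
  have h1 : a ^ Nat.card A = 1 := congrArg Subtype.val (pow_card_eq_one' (x := (⟨a, ha⟩ : A)))
  have e := hs.inv _ (A.pow_mem ha (k + 1))
  refine isConj_iff.2 ⟨(a ^ (k + 1))⁻¹, ?_⟩
  rw [inv_inv]
  nth_rewrite 1 [← e]
  calc s * a ^ (k + 1) * s⁻¹ * s * a ^ (k + 1) = s * a * a ^ (2 * k + 1) := by group
    _ = s * a := by rw [← hk, h1, mul_one]

omit [Finite G] in
theorem Inv.mul_mem (h : SSC A) (hA : A ≠ ⊥) {s u : G} (hs : Inv A s) (hu : Inv A u) :
    s * u ∈ A := by
  obtain ⟨⟨a, ha⟩, ha1⟩ := ne_bot_iff_exists_ne_one.1 hA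
  refine h.mem_of_comm ha (fun h1 => ha1 (Subtype.ext h1)) ?_
  have e1 := hs.inv _ (A.inv_mem ha)
  have e2 := hu.inv a ha
  calc s * u * a = s * (u * a * u⁻¹) * s⁻¹ * (s * u) := by group
    _ = _ := by rw [e2, e1, inv_inv]

end SSC

end Cfsg.Lib.SCS
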