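import Cfsg.Agent.SCS.Basic
import Cfsg.Agent.Char.InvPairs
import Cfsg.Agent.Char.Isometry
import Cfsg.Agent.Char.Linear
import Cfsg.Agent.Char.Kernel

/-!
# Induction from strongly self-centralizing subgroups
-/

set_option autoImplicit false

namespace Cfsg.Lib.SCS

open Cfsg Subgroup Cfsg.Lib.Char
open scoped ComplexConjugate

section abelian

variable {A : Type*} [Group A] [Fintype A]

theorem isClassFunction_of_comm (hA : ∀ a b : A, a * b = b * a) (f : A → ℂ) :
    IsClassFunction A f := isClassFunction_iff_isConj.2 fun a b hab => by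
  obtain ⟨x, rfl⟩ := isConj_iff.1 hab
  rw [hA x a, mul_inv_cancel_right]

theorem const_of_classInner (hA : ∀ a b : A, a * b = b * a) (f : A → ℂ) (d : ℂ)
    (h : ∀ lam : A →* ℂˣ, lam ≠ 1 → classInner f (fun a => (lam a : ℂ)) = d) :
    (∀ a, a ≠ 1 → f a = classInner f (fun _ => 1) - d) ∧
      f 1 = classInner f (fun _ => 1) - d + d * Nat.card A := by
  classical
  set c := classInner f (fun _ => 1) - d with hc
  have key : f = c • (fun _ => (1 : ℂ)) + d • (fun g => if g = 1 then (Nat.card A : ℂ) else 0) := by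
    refine (isClassFunction_of_comm hA f).ext_classInner_irr (isClassFunction_of_comm hA _)
      fun χ hχ => ?_
    obtain ⟨lam, rfl⟩ := hχ.exists_monoidHom_of_comm hA
    have e1 : classInner (fun g : A => if g = 1 then (Nat.card A : ℂ) else 0)
        (fun a => (lam a : ℂ)) = 1 := by
      rw [classInner, Finset.sum_eq_single 1 (fun b _ hb => by simp [hb]) (by simp)]
      simp [card_ne_zero A]
    have e2 := classInner_monoidHom (1 : A →* ℂˣ) lam
    simp only [MonoidHom.one_apply, Units.val_one] at e2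
    rw [classInner_add_left, classInner_smul_left, classInner_smul_left, e1, e2]
    by_cases hl : lam = 1
    · subst hl
      simp [hc]
    · rw [h lam hl, if_neg (Ne.symm hl)]; simp
  refine ⟨fun a ha => ?_, ?_⟩
  · rw [key]; simp [ha]
  · rw [key]; simp

end abelian

section bessel

variable {G : Type*} [Group G] [Fintype G]

theorem sum_normSq_le (S : Finset (G → ℂ)) (hS : ∀ ξ ∈ S, IsIrrCharacter G ξ) (g : G) :
    ∑ ξ ∈ S, ‖ξ g‖ ^ 2 ≤ (Nat.card (centralizer ({g} : Set G)) : ℝ) := by
  classical
  rw [← sum_irr_normSq g]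
  have : ∑ ξ ∈ S, ‖ξ g‖ ^ 2 = ∑ χ ∈ Finset.univ.filter (fun χ : IrrCharacter G => (χ : G → ℂ) ∈ S),
      ‖(χ : G → ℂ) g‖ ^ 2 := by
    symm
    refine Finset.sum_bij (fun χ _ => (χ : G → ℂ)) (fun χ h => (Finset.mem_filter.1 h).2)
      (fun a _ b _ h => Subtype.ext h) (fun ξ h => ⟨⟨ξ, hS ξ h⟩, by simpa using h, rfl⟩)
      (fun _ _ => rfl)
  rw [this]
  exact Finset.sum_le_sum_of_subset_of_nonneg (Finset.filter_subset _ _) fun _ _ _ => by positivity

theorem eq_sum_of_degree {π : G → ℂ} (hπ : IsCharacter G π) (S : Finset (G → ℂ))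
    (hS : ∀ ξ ∈ S, IsIrrCharacter G ξ) (h1 : π 1 = ∑ ξ ∈ S, classInner π ξ * ξ 1) (g : G) :
    π g = ∑ ξ ∈ S, classInner π ξ * ξ g := by
  classical
  have hc : IsCharacter G (π - ∑ ξ ∈ S, classInner π ξ • ξ) := by
    refine isCharacter_iff_classInner.2 ⟨hπ.isClassFunction.sub (isClassFunction_sum S
      fun ξ h => (hS ξ h).isClassFunction.smul _), fun χ hχ => ?_⟩
    rw [classInner_sub_left, classInner_sum_left]
    by_cases h : χ ∈ S
    · refine ⟨0, ?_⟩
      rw [Finset.sum_eq_single χ (fun ξ h1 h2 => by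
        rw [classInner_smul_left, (hS ξ h1).classInner_of_ne hχ h2, mul_zero]) (fun h2 => absurd h h2),
        classInner_smul_left, hχ.classInner_self]
      simp
    · rw [Finset.sum_eq_zero (fun ξ h1 => by
        rw [classInner_smul_left, (hS ξ h1).classInner_of_ne hχ (fun h2 => h (h2 ▸ h1)), mul_zero]),
        sub_zero]
      exact hπ.exists_nat_classInner hχ.isCharacter
  have := congrFun (hc.eq_zero_of_apply_one (by simp [h1, Finset.sum_apply])) g
  simpa [Finset.sum_apply, sub_eq_zero] using this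

theorem three_mul_sq_le {β a b c : G → ℂ} (ha : IsIrrCharacter G a) (hb : IsIrrCharacter G b)
    (hc : IsIrrCharacter G c) (hab : a ≠ b) (hac : a ≠ c) (hbc : b ≠ c) {z N : ℤ}
    (h1 : classInner β a = z) (h2 : classInner β b = z) (h3 : classInner β c = z)
    (hN : classInner β β = N) : 3 * z ^ 2 ≤ N := by
  have e := classInner_self_re_nonneg (β - (z : ℂ) • (a + b + c))
  simp only [classInner_sub_left, classInner_sub_right, classInner_smul_left, classInner_smul_right,
    classInner_add_left, classInner_add_right, ← conj_classInner β a, ← conj_classInner β b,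
    ← conj_classInner β c, h1, h2, h3, hN, ha.classInner_self, hb.classInner_self,
    hc.classInner_self, ha.classInner_of_ne hb hab, ha.classInner_of_ne hc hac,
    hb.classInner_of_ne hc hbc, hb.classInner_of_ne ha hab.symm, hc.classInner_of_ne ha hac.symm,
    hc.classInner_of_ne hb hbc.symm, map_intCast] at e
  have : ((N - 3 * z ^ 2 : ℤ) : ℝ) ≥ 0 := by
    convert e using 1
    rw [← Complex.intCast_re]
    congr 1
    push_cast; ring
  have : N - 3 * z ^ 2 ≥ 0 := by exact_mod_cast this
  linarith

end bessel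

namespace SSC

variable {G : Type*} [Group G] [Fintype G] {A : Subgroup G}

theorem ind_apply (h : SSC A) [Fintype (normalizer (A : Set G))] {φ : A → ℂ} (h1 : φ 1 = 0) (a : A) :
    (Nat.card A : ℂ) * indFun A φ a =
      ∑ x : normalizer (A : Set G), φ (A.normalizerMonoidHom x a) := by
  classical
  rw [indFun_apply', mul_inv_cancel_left₀ (card_ne_zero A),
    ← Finset.sum_filter_of_ne (p := fun x => x ∈ normalizer (A : Set G)),
    Finset.sum_subtype (p := fun x => x ∈ normalizer (A : Set G)) _ (by simp)]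
  · refine Finset.sum_congr rfl fun x _ => ?_
    rw [extendByZero_of_mem A φ (conj_mem x.2 a.2)]
    rfl
  · intro x _ hx
    by_contra hn
    refine hx (extendByZero_eq_zero A φ fun hm => ?_)
    by_cases ha : (a : G) = 1
    · rw [← h1]; congr 1; ext; simp [ha]
    · exact absurd (h.mem_normalizer a.2 ha hm) hn

theorem ind_eq_zero {φ : A → ℂ} (h1 : φ 1 = 0) {g : G} (hg : ¬ Cl A g) : indFun A φ g = 0 := by
  refine indFun_eq_zero A φ fun x hx => ?_
  by_cases hg1 : g = 1
  · rw [← h1]; congr 1; ext; simp [hg1]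
  · exact absurd ⟨hg1, x, hx⟩ hg

theorem inner_ind (h : SSC A) [Fintype A] [Fintype (normalizer (A : Set G))] {φ ψ : A → ℂ}
    (h1 : ψ 1 = 0) : (Nat.card A : ℂ) * classInner (indFun A φ) (indFun A ψ) =
      ∑ x : normalizer (A : Set G), classInner φ (fun a => ψ (A.normalizerMonoidHom x a)) := by
  rw [classInner_indFun_left A φ (indFun_isClassFunction A ψ)]
  have := classInner_sum_right Finset.univ φ
    (fun (x : normalizer (A : Set G)) (a : A) => ψ (A.normalizerMonoidHom x a))
  rw [← this]
  have e : (∑ x : normalizer (A : Set G), fun a : A => ψ (A.normalizerMonoidHom x a)) =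
      (Nat.card A : ℂ) • fun a : A => indFun A ψ a := by
    ext a
    simp only [Finset.sum_apply, Pi.smul_apply, smul_eq_mul]
    exact (h.ind_apply h1 a).symm
  rw [e, classInner_smul_right, map_natCast]

open Classical in
theorem sum_cl (h : SSC A) [Fintype A] {F : G → ℂ} (hF : IsClassFunction G F) :
    (A.relIndex (normalizer (A : Set G)) : ℂ) * ∑ g ∈ Finset.univ.filter (Cl A), F g =
      A.index * ∑ a ∈ Finset.univ.erase (1 : A), F a := by
  have := Fintype.ofFinite (normalizer (A : Set G))
  let φ : A → ℂ := fun a => if a = 1 then 0 else 1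
  have h1 : φ 1 = 0 := by simp [φ]
  have e := sum_indFun_mul A φ hF
  rw [← Finset.sum_erase Finset.univ (a := (1 : A)) (by simp [h1])] at e
  rw [Finset.sum_congr rfl (g := fun a : A => φ a * F a) (fun a ha => by
    simp [φ, (Finset.mem_erase.1 ha).1]), ← e, Finset.sum_filter, Finset.mul_sum]
  refine Finset.sum_congr rfl fun g _ => ?_
  split_ifs with hg
  · congr 1
    obtain ⟨hg1, x, hx⟩ := hg
    rw [← indFun_conj_apply A φ g x]
    have e2 := h.ind_apply h1 ⟨_, hx⟩
    rw [Finset.sum_congr rfl (g := fun _ => 1) (fun y _ => if_neg (fun h2 =>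
      conj_ne_one hg1 x (congrArg Subtype.val ((map_eq_one_iff _ (MulEquiv.injective _)).1 h2)))),
      Finset.sum_const, Finset.card_univ, ← Nat.card_eq_fintype_card, card_normalizer] at e2
    refine mul_left_cancel₀ (card_ne_zero A) ?_
    rw [e2]; simp [mul_comm]
  · rw [ind_eq_zero h1 hg]; simp

open Classical in
theorem card_cl (h : SSC A) : (Finset.univ.filter (Cl A)).card =
    (normalizer (A : Set G)).index * (Nat.card A - 1) := by
  have := Fintype.ofFinite A
  have e := h.sum_cl (isClassFunction_const 1)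
  simp only [Finset.sum_const, nsmul_eq_mul, mul_one] at e
  rw [Finset.card_erase_of_mem (Finset.mem_univ _), Finset.card_univ, ← Nat.card_eq_fintype_card,
    ← relIndex_mul_index (le_normalizer (H := A))] at e
  have h0 : A.relIndex (normalizer (A : Set G)) ≠ 0 := index_ne_zero_of_finite
  refine Nat.eq_of_mul_eq_mul_left (Nat.pos_of_ne_zero h0) ?_
  rw [← mul_assoc]
  exact_mod_cast e

theorem index_modEq (h : SSC A) : (normalizer (A : Set G)).index ≡ 1 [MOD Nat.card A] := by
  classical
  have h1 := dvd_card_of_conj (Finset.univ.filter fun g : G => g ≠ 1 ∧ ¬ Cl A g)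
    (fun s hs x => by
      simp only [Finset.mem_filter, Finset.mem_univ, true_and, cl_conj_iff] at hs ⊢
      exact ⟨conj_ne_one hs.1 x, hs.2⟩)
    (fun s hs => h.dvd_index (Finset.mem_filter.1 hs).2.1 (Finset.mem_filter.1 hs).2.2)
  have h2 := Finset.card_filter_add_card_filter_not (s := (Finset.univ : Finset G)) (Cl A)
  have h3 : (Finset.univ.filter fun g : G => ¬ Cl A g) =
      insert 1 (Finset.univ.filter fun g : G => g ≠ 1 ∧ ¬ Cl A g) := by
    ext g
    by_cases hg : g = 1
    · simp [hg, not_cl_one]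
    · simp [hg]
  rw [h3, Finset.card_insert_of_notMem (by simp), h.card_cl, Finset.card_univ,
    ← Nat.card_eq_fintype_card] at h2
  obtain ⟨k, hk⟩ := h1
  obtain ⟨l, hl⟩ := card_subgroup_dvd_card A
  have hp : 0 < Nat.card A := Nat.card_pos
  rw [hk, hl] at h2
  generalize (normalizer (A : Set G)).index = i at h2
  generalize Nat.card A = n at *
  obtain ⟨n, rfl⟩ : ∃ m, n = m + 1 := ⟨n - 1, by omega⟩
  refine (Nat.modEq_iff_dvd.2 ⟨(l : ℤ) - i - k, ?_⟩)
  have : (i : ℤ) * n + ((n + 1) * k + 1) = (n + 1) * l := by exact_mod_cast h2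
  push_cast
  linear_combination this

open Classical in
theorem pairSum_ind (h : SSC A) [Fintype A] (ho : Odd (Nat.card A)) {s : G} (hs : Inv A s)
    {φ : A → ℂ} (h1 : φ 1 = 0) {u v : G} (hu : u * u = 1) (hv : v * v = 1) :
    pairSum u v (indFun A φ) =
      if IsConj s u ∧ IsConj s v then (Nat.card G : ℂ) * ∑ a, φ a else 0 := by
  by_cases hA : A = ⊥
  · have : φ = 0 := by
      ext a
      rw [show a = 1 from Subtype.ext (by simpa [hA] using a.2), h1]; rfl
    simp [this, indFun_zero, pairSum]
  have key : ∀ a b : G, a * a = 1 → b * b = 1 → extendByZero A φ (a * b) ≠ 0 →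
      s * a ∈ A ∧ s * b ∈ A := by
    intro a b ha hb hab
    have hm : a * b ∈ A := by
      by_contra hm; exact hab (extendByZero_of_notMem A φ hm)
    have hne : a * b ≠ 1 := fun h2 => hab (by rw [h2, ← h1]; exact extendByZero_coe A φ 1)
    have ea : a⁻¹ = a := inv_eq_of_mul_eq_one_right ha
    have eb : b⁻¹ = b := inv_eq_of_mul_eq_one_right hb
    have hi : a * (a * b) * a⁻¹ = (a * b)⁻¹ := by
      rw [← mul_assoc, ha, one_mul, mul_inv_rev, ea, eb]
    have ha1 : a ≠ 1 := by
      rintro rfl
      rw [one_mul] at hm hne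
      exact hne (eq_one_of_sq ho hm hb)
    have h3 := Inv.mul_mem h hA hs
      (h.inv_of ho (h.mem_normalizer hm hne (hi ▸ A.inv_mem hm)) ha1 ha)
    refine ⟨h3, ?_⟩
    have := A.mul_mem h3 hm
    rwa [mul_assoc, ← mul_assoc a, ha, one_mul] at this
  have hsc : ∀ a : G, s * a ∈ A → IsConj s a := fun a ha => by
    have := hs.isConj ho ha
    rwa [← mul_assoc, hs.sq, one_mul] at this
  rw [pairSum_indFun]
  split_ifs with hc
  · let f : A → G := fun a => s * a
    have hf : Function.Injective f := fun a b hab => Subtype.ext (mul_left_cancel hab)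
    have himg : ∀ a : G, s * a ∈ A → a ∈ Finset.univ.image f := fun a ha =>
      Finset.mem_image.2 ⟨⟨_, ha⟩, Finset.mem_univ _, by
        simp only [f]; rw [← mul_assoc, hs.sq, one_mul]⟩
    have hsub : ∀ w, IsConj s w → Finset.univ.image f ⊆ Finset.univ.filter (fun a => IsConj w a) :=
      fun w hw a ha => by
        obtain ⟨b, -, rfl⟩ := Finset.mem_image.1 ha
        exact Finset.mem_filter.2 ⟨Finset.mem_univ _, hw.symm.trans (hs.isConj ho b.2)⟩
    rw [pairSum, ← Finset.sum_subset (hsub u hc.1), Finset.sum_image (fun a _ b _ hab => hf hab)]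
    · rw [Finset.sum_congr rfl (g := fun _ => ∑ a, φ a), Finset.sum_const, Finset.card_univ,
        ← Nat.card_eq_fintype_card, nsmul_eq_mul, ← mul_assoc, ← Nat.cast_mul, index_mul_card]
      intro a _
      rw [← Finset.sum_subset (hsub v hc.2), Finset.sum_image (fun a _ b _ hab => hf hab)]
      · refine Fintype.sum_equiv (Equiv.mulLeft a⁻¹) _ _ fun b => ?_
        rw [← extendByZero_coe A φ]
        congr 1
        have e := hs.inv a a.2
        rw [inv_eq_of_mul_eq_one_right hs.sq] at e
        simp only [f, Equiv.coe_mulLeft, coe_mul, coe_inv]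
        rw [← e]; group
      · intro b hb hb2
        by_contra hne
        exact hb2 (himg b (key _ b (hs.mul a.2)
          (mul_self_eq_one_of_isConj hv (Finset.mem_filter.1 hb).2) hne).2)
    · intro a ha ha2
      refine Finset.sum_eq_zero fun b hb => ?_
      by_contra hne
      exact ha2 (himg a (key a b (mul_self_eq_one_of_isConj hu (Finset.mem_filter.1 ha).2)
          (mul_self_eq_one_of_isConj hv (Finset.mem_filter.1 hb).2) hne).1)
  · rw [pairSum_eq_zero, mul_zero]
    intro a b ha hb
    by_contra hne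
    obtain ⟨h3, h4⟩ := key a b (mul_self_eq_one_of_isConj hu ha) (mul_self_eq_one_of_isConj hv hb) hne
    exact hc ⟨(hsc a h3).trans ha.symm, (hsc b h4).trans hb.symm⟩

/-- The conjugate of a linear character of `A`. -/
noncomputable def cj (A : Subgroup G) (x : normalizer (A : Set G)) (μ : A →* ℂˣ) : A →* ℂˣ :=
  μ.comp (A.normalizerMonoidHom x).toMonoidHom

omit [Fintype G] in
theorem cj_eq_one {x : normalizer (A : Set G)} {μ : A →* ℂˣ} : cj A x μ = 1 ↔ μ = 1 := by
  refine ⟨fun h => MonoidHom.ext fun a => ?_, fun h => by subst h; rfl⟩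
  obtain ⟨b, rfl⟩ := (A.normalizerMonoidHom x).surjective a
  exact DFunLike.congr_fun h b

theorem cj_eq_iff (h : SSC A) {x : normalizer (A : Set G)} {μ : A →* ℂˣ} (hμ : μ ≠ 1) :
    μ = cj A x μ ↔ (x : G) ∈ A := by
  refine ⟨fun e => ?_, fun hx => MonoidHom.ext fun a => ?_⟩
  · by_contra hx
    refine hμ (MonoidHom.ext fun a => ?_)
    obtain ⟨b, hb⟩ := h.exists_comm x.2 hx a
    have e1 : a = A.normalizerMonoidHom x b * b⁻¹ := Subtype.ext hb.symm
    have e2 : μ b = μ (A.normalizerMonoidHom x b) := DFunLike.congr_fun e b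
    rw [e1, map_mul, ← e2, map_inv]; simp
  · have : A.normalizerMonoidHom x a = a := Subtype.ext (by
      change (x : G) * (a : G) * (x : G)⁻¹ = a
      rw [h.comm hx a.2, mul_inv_cancel_right])
    change μ a = μ (A.normalizerMonoidHom x a)
    rw [this]

open Classical in
theorem sum_cj_self (h : SSC A) [Fintype (normalizer (A : Set G))] {μ : A →* ℂˣ} (hμ : μ ≠ 1) :
    (Finset.univ.filter fun x => μ = cj A x μ).card = Nat.card A := by
  rw [← Nat.card_congr (subgroupOfEquivOfLe (le_normalizer (H := A))).toEquiv,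
    Nat.card_eq_fintype_card, Fintype.card_subtype]
  congr 1
  ext x
  simp [h.cj_eq_iff hμ, mem_subgroupOf]

/-- The difference of two linear characters. -/
noncomputable def df {B : Type*} [Group B] (μ ν : B →* ℂˣ) : B → ℂ :=
  (fun a => (μ a : ℂ)) - fun a => (ν a : ℂ)

theorem df_one {B : Type*} [Group B] (μ ν : B →* ℂˣ) : df μ ν 1 = 0 := by simp [df]

theorem df_gen {B : Type*} [Group B] (μ ν : B →* ℂˣ) : IsGeneralizedCharacter B (df μ ν) :=
  (isIrrCharacter_monoidHom μ).isGeneralizedCharacter.sub
    (isIrrCharacter_monoidHom ν).isGeneralizedCharacter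

open Classical in
theorem inner_df (h : SSC A) [Fintype (normalizer (A : Set G))] (μ ν μ' ν' : A →* ℂˣ) :
    (Nat.card A : ℂ) * classInner (indFun A (df μ ν)) (indFun A (df μ' ν')) =
      ((Finset.univ.filter fun x => μ = cj A x μ').card : ℂ) -
        (Finset.univ.filter fun x => μ = cj A x ν').card -
        ((Finset.univ.filter fun x => ν = cj A x μ').card -
          (Finset.univ.filter fun x => ν = cj A x ν').card) := by
  have := Fintype.ofFinite A
  rw [h.inner_ind (df_one _ _)]
  simp only [Finset.card_filter, Nat.cast_sum, ← Finset.sum_sub_distrib]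
  refine Finset.sum_congr rfl fun x _ => ?_
  have : (fun a => df μ' ν' (A.normalizerMonoidHom x a)) = df (cj A x μ') (cj A x ν') := rfl
  rw [this, df, df, classInner_sub_left, classInner_sub_right, classInner_sub_right]
  simp only [classInner_monoidHom, Nat.cast_ite, Nat.cast_one, Nat.cast_zero]

theorem norm_df_le (h : SSC A) {μ ν : A →* ℂˣ} (hμ : μ ≠ 1) (hν : ν ≠ 1) {N : ℤ}
    (hN : classInner (indFun A (df μ ν)) (indFun A (df μ ν)) = N) : N ≤ 2 := by
  classical
  have := Fintype.ofFinite (normalizer (A : Set G))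
  have e := h.inner_df μ ν μ ν
  rw [hN, h.sum_cj_self hμ, h.sum_cj_self hν] at e
  have e' : (Nat.card A : ℤ) * N = Nat.card A - (Finset.univ.filter fun x => μ = cj A x ν).card -
    ((Finset.univ.filter fun x => ν = cj A x μ).card - Nat.card A) := by exact_mod_cast e
  have hp : 0 < Nat.card A := Nat.card_pos
  by_contra hlt
  nlinarith

theorem norm_df_one (h : SSC A) {μ : A →* ℂˣ} (hμ : μ ≠ 1) :
    classInner (indFun A (df 1 μ)) (indFun A (df 1 μ)) =
      A.relIndex (normalizer (A : Set G)) + 1 := by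
  classical
  have := Fintype.ofFinite (normalizer (A : Set G))
  have e := h.inner_df 1 μ 1 μ
  rw [h.sum_cj_self hμ, Finset.filter_true_of_mem (fun x _ => (cj_eq_one.2 rfl).symm),
    Finset.filter_false_of_mem (fun x _ h2 => hμ (cj_eq_one.1 h2.symm)),
    Finset.filter_false_of_mem (fun x _ h2 => hμ (h2.trans (cj_eq_one.2 rfl))), Finset.card_univ,
    ← Nat.card_eq_fintype_card, card_normalizer] at e
  refine mul_left_cancel₀ (card_ne_zero A) ?_
  rw [e]; push_cast; simp; ring

theorem inner_df_one_one [Fintype A] {μ : A →* ℂˣ} (hμ : μ ≠ 1) :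
    classInner (df 1 μ) (fun _ => 1) = 1 := by
  classical
  have e2 := classInner_monoidHom μ 1
  have e1 := classInner_monoidHom (1 : A →* ℂˣ) 1
  simp only [MonoidHom.one_apply, Units.val_one] at e1 e2
  rw [df, classInner_sub_left]
  simp only [MonoidHom.one_apply, Units.val_one]
  rw [e1, e2, if_neg hμ]; simp

theorem sum_df_one [Fintype A] {μ : A →* ℂˣ} (hμ : μ ≠ 1) : ∑ a, df 1 μ a = Nat.card A := by
  have := inner_df_one_one hμ
  rw [classInner_one_right, inv_mul_eq_iff_eq_mul₀ (card_ne_zero A), mul_one] at this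
  exact this

end SSC

end Cfsg.Lib.SCS
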