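import Cfsg.Agent.SCS.Two

/-!
# Automizer two: one class of involutions and the order formula
-/

set_option autoImplicit false

namespace Cfsg.Lib.SCS

open Cfsg Subgroup Cfsg.Lib.Char SSC
open scoped ComplexConjugate

variable {G : Type*} [Group G] [Fintype G]

namespace Two

variable {A : Subgroup G} {χ : G → ℂ} {δ : ℤ} {c : G → ℤ} {Θ : Finset (G → ℂ)}
  (D : Two A χ δ c Θ)
include D

theorem dsq : δ * δ = 1 := by rcases D.hδ with rfl | rfl <;> simp

theorem dsq' : (δ : ℂ) * δ = 1 := by exact_mod_cast D.dsq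

theorem d_ne : (δ : ℂ) ≠ 0 := left_ne_zero_of_mul_eq_one D.dsq'

theorem cast_c (g : G) : (c g : ℂ) = δ * χ g := by rw [D.hc, ← mul_assoc, D.dsq', one_mul]

theorem odd : Odd (Nat.card A) := ⟨_, D.card.symm⟩

theorem c_conj (g x : G) : c (x * g * x⁻¹) = c g := by
  have : (c (x * g * x⁻¹) : ℂ) = c g := by
    rw [D.cast_c, D.cast_c, D.irr.isClassFunction.apply_conj]
  exact_mod_cast this

theorem classFun (w : ℤ → ℂ) : IsClassFunction G fun g => w (c g) :=
  isClassFunction_iff_isConj.2 fun a b hab => by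
    obtain ⟨x, rfl⟩ := isConj_iff.1 hab
    rw [D.c_conj]

theorem off {θ : G → ℂ} (hθ : θ ∈ Θ) {g : G} (hg : ¬ Cl A g) : θ g = δ * (c g + 1) := by
  obtain ⟨lam, -, e⟩ := D.ind θ hθ
  have := congrFun e g
  rw [ind_eq_zero (df_one _ _) hg] at this
  simp only [Pi.add_apply, Pi.smul_apply, Pi.sub_apply, smul_eq_mul, D.hc] at this
  linear_combination δ * this - θ g * D.dsq' + δ * c g * D.dsq'

theorem exists_pair : ∃ θ₁ ∈ Θ, ∃ θ₂ ∈ Θ, θ₁ ≠ θ₂ :=
  Finset.one_lt_card.1 (by have := D.card; have := D.five; omega)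

theorem pos : 0 < δ * c 1 := by
  obtain ⟨n, hn, e⟩ := D.irr.exists_nat_degree_pos
  rw [D.hc] at e
  have : δ * c 1 = n := by exact_mod_cast e
  omega

theorem pos' : 0 < δ * (c 1 + 1) := by
  obtain ⟨θ, hθ, -⟩ := D.exists_pair
  obtain ⟨n, hn, e⟩ := (D.irrθ θ hθ).exists_nat_degree_pos
  rw [D.off hθ (not_cl_one A)] at e
  have : δ * (c 1 + 1) = n := by exact_mod_cast e
  omega

theorem X_ne : c 1 ≠ 0 := fun h => by have := D.pos; simp [h] at this

theorem X_ne' : c 1 + 1 ≠ 0 := fun h => by have := D.pos'; simp [h] at this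

theorem XX_pos : 0 < c 1 * (c 1 + 1) := by
  have := mul_pos D.pos D.pos'
  have e : δ * c 1 * (δ * (c 1 + 1)) = c 1 * (c 1 + 1) := by
    linear_combination c 1 * (c 1 + 1) * D.dsq
  omega

omit D [Fintype G] in
theorem dvd_aux {δ z : ℤ} {ξ : G → ℂ} [Finite G] (hξ : IsIrrCharacter G ξ) (h : ξ 1 = δ * z) :
    z ∣ Nat.card G := by
  obtain ⟨n, -, e⟩ := hξ.exists_nat_degree_pos
  have h1 := Int.natCast_dvd_natCast.2 (irr_degree_dvd_card hξ e)
  rw [h] at e
  have : δ * z = n := by exact_mod_cast e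
  exact (Dvd.intro_left _ this).trans h1

theorem X_dvd : c 1 ∣ Nat.card G := dvd_aux D.irr (D.hc 1)

theorem X_dvd' : c 1 + 1 ∣ Nat.card G := by
  obtain ⟨θ, hθ, -⟩ := D.exists_pair
  exact dvd_aux (δ := δ) (D.irrθ θ hθ) (by rw [D.off hθ (not_cl_one A)]; push_cast; rfl)

theorem c_ne [IsSimpleGroup G] {g : G} (hg : g ≠ 1) : c g ≠ c 1 := fun h =>
  hg (D.irr.eq_one_of_apply_eq_of_isSimpleGroup D.ne_one (by rw [D.hc, D.hc, h]))

theorem sum_c : ∑ g, c g = 0 := by
  have : ((∑ g, c g : ℤ) : ℂ) = 0 := by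
    push_cast
    simp only [D.cast_c, ← Finset.mul_sum, D.irr.sum_eq_zero D.ne_one, mul_zero]
  exact_mod_cast this

theorem sum_sq : ∑ g, c g ^ 2 = Nat.card G := by
  have e := card_mul_classInner χ χ
  rw [D.irr.classInner_self, mul_one] at e
  have : ((∑ g, c g ^ 2 : ℤ) : ℂ) = Nat.card G := by
    rw [e]
    push_cast
    refine Finset.sum_congr rfl fun g _ => ?_
    rw [D.hc, map_mul, map_intCast, map_intCast]
    linear_combination -(c g : ℂ) ^ 2 * D.dsq'
  exact_mod_cast this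

omit D in
open Classical in
theorem card_cl' {B : Subgroup G} (h : SSC B) :
    (B.relIndex (normalizer (B : Set G)) : ℤ) * Nat.card B * (Finset.univ.filter (Cl B)).card =
      Nat.card G * (Nat.card B - 1) := by
  have hp : 1 ≤ Nat.card B := Nat.card_pos
  rw [h.card_cl, ← (normalizer (B : Set G)).card_mul_index, card_normalizer]
  push_cast [hp]
  ring

open Classical in
theorem sum_off (w : ℤ → ℤ) : ∑ g ∈ Finset.univ.filter (fun g => ¬ Cl A g), w (c g) =
    ∑ g, w (c g) - (Finset.univ.filter (Cl A)).card * w 1 := by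
  rw [← Finset.sum_filter_add_sum_filter_not Finset.univ (Cl A), Finset.sum_congr rfl
    (s₁ := Finset.univ.filter (Cl A)) (g := fun _ => w 1)
    (fun g hg => by rw [D.on g (Finset.mem_filter.1 hg).2])]
  simp

open Classical in
theorem sum_off₁ : (Nat.card A : ℤ) * ∑ g ∈ Finset.univ.filter (fun g => ¬ Cl A g),
    c g * (c g + 1) = Nat.card G := by
  have e := card_cl' D.ssc
  rw [D.idx] at e
  rw [D.sum_off fun z => z * (z + 1)]
  have : ∑ g, c g * (c g + 1) = ∑ g, c g ^ 2 + ∑ g, c g := by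
    rw [← Finset.sum_add_distrib]; exact Finset.sum_congr rfl fun g _ => by ring
  rw [this, D.sum_sq, D.sum_c]
  push_cast at e
  linear_combination -e

open Classical in
theorem sum_off₂ : (Nat.card A : ℤ) * ∑ g ∈ Finset.univ.filter (fun g => ¬ Cl A g),
    (c g + 1) ^ 2 = 2 * Nat.card G := by
  have e := card_cl' D.ssc
  rw [D.idx] at e
  rw [D.sum_off fun z => (z + 1) ^ 2]
  have : ∑ g, (c g + 1) ^ 2 = ∑ g, c g ^ 2 + 2 * ∑ g, c g + ∑ _g : G, (1 : ℤ) := by
    rw [Finset.mul_sum, ← Finset.sum_add_distrib, ← Finset.sum_add_distrib]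
    exact Finset.sum_congr rfl fun g _ => by ring
  rw [this, D.sum_sq, D.sum_c, Finset.sum_const, Finset.card_univ, ← Nat.card_eq_fintype_card]
  push_cast at e
  simp only [nsmul_eq_mul]
  linear_combination -2 * e

theorem not_cl_of_sq {u : G} (hu : u * u = 1) : ¬ Cl A u := by
  rintro ⟨h1, x, hx⟩
  refine conj_ne_one h1 x (eq_one_of_sq D.odd hx ?_)
  calc x * u * x⁻¹ * (x * u * x⁻¹) = x * (u * u) * x⁻¹ := by group
    _ = 1 := by rw [hu]; group

theorem column {y : G} (hy : ¬ Cl A y) : 2 * (1 + c y ^ 2) + (Nat.card A - 1) * (c y + 1) ^ 2 ≤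
    2 * (Nat.card (centralizer ({y} : Set G)) : ℤ) := by
  classical
  have h1 : χ ∉ Θ := fun h => D.θ_ne _ h rfl
  have h2 : (fun _ => 1) ∉ insert χ Θ := by
    rw [Finset.mem_insert]
    rintro (h | h)
    · exact D.ne_one h.symm
    · exact D.θ_ne_one _ h rfl
  have e := sum_normSq_le (insert (fun _ => 1) (insert χ Θ)) (fun ξ hξ => by
    rcases Finset.mem_insert.1 hξ with rfl | hξ
    · exact isIrrCharacter_one
    rcases Finset.mem_insert.1 hξ with rfl | hξ
    · exact D.irr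
    · exact D.irrθ _ hξ) y
  have hd : ‖(δ : ℂ)‖ = 1 := by rcases D.hδ with rfl | rfl <;> simp
  rw [Finset.sum_insert h2, Finset.sum_insert h1, Finset.sum_congr rfl
    (g := fun _ => (((c y + 1) ^ 2 : ℤ) : ℝ)) (fun θ hθ => by
      rw [D.off hθ hy, norm_mul, hd, one_mul, ← Int.cast_one, ← Int.cast_add, Complex.norm_intCast,
        sq_abs]; push_cast; rfl), D.hc, norm_mul, hd, one_mul, Complex.norm_intCast, sq_abs,
    Finset.sum_const, nsmul_eq_mul, norm_one] at e
  have e' : 1 ^ 2 + (c y ^ 2 + Θ.card * (c y + 1) ^ 2) ≤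
    (Nat.card (centralizer ({y} : Set G)) : ℤ) := by exact_mod_cast e
  rw [← D.card]
  push_cast
  linarith

theorem pairSum_c (u v : G) : (c 1 : ℂ) * pairSum u v (fun g => (c g : ℂ)) =
    (centralizer ({u} : Set G)).index * (centralizer ({v} : Set G)).index * (c u * c v) := by
  have : (fun g => (c g : ℂ)) = (δ : ℂ) • χ := by ext g; simp [D.cast_c]
  have h0 : (c 1 : ℂ) ≠ 0 := by exact_mod_cast D.X_ne
  rw [this, pairSum_smul, pairSum_irr u v D.irr, D.hc, D.hc, D.hc]
  have := D.d_ne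
  field_simp
  rw [pow_two, D.dsq', one_mul]

theorem pairSum_θ {θ : G → ℂ} (hθ : θ ∈ Θ) {u v : G} (hu : u * u = 1) (hv : v * v = 1) :
    (c 1 + 1 : ℂ) * pairSum u v ((δ : ℂ) • θ) = (centralizer ({u} : Set G)).index *
      (centralizer ({v} : Set G)).index * ((c u + 1) * (c v + 1)) := by
  have h0 : (c 1 + 1 : ℂ) ≠ 0 := by exact_mod_cast D.X_ne'
  rw [pairSum_smul, pairSum_irr u v (D.irrθ θ hθ), D.off hθ (D.not_cl_of_sq hu),
    D.off hθ (D.not_cl_of_sq hv), D.off hθ (not_cl_one A)]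
  have := D.d_ne
  field_simp
  rw [pow_two, D.dsq', one_mul]

omit D in
theorem pairSum_one (u v : G) : pairSum u v (fun _ => 1) =
    (centralizer ({u} : Set G)).index * (centralizer ({v} : Set G)).index := by
  rw [pairSum_irr u v isIrrCharacter_one]; simp

open Classical in
theorem pair_formula {s : G} (hs : Inv A s) {u v : G} (hu : u * u = 1) (hv : v * v = 1) :
    ((centralizer ({u} : Set G)).index * (centralizer ({v} : Set G)).index *
      ((c 1 - c u) * (c 1 - c v)) : ℤ) =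
      if IsConj s u ∧ IsConj s v then c 1 * (c 1 + 1) * (Nat.card G * Nat.card A) else 0 := by
  have := Fintype.ofFinite A
  obtain ⟨θ, hθ, -⟩ := D.exists_pair
  obtain ⟨lam, hl, e⟩ := D.ind θ hθ
  have e1 := D.ssc.pairSum_ind D.odd hs (df_one 1 lam) hu hv
  have e2 := D.pairSum_c u v
  have e3 := D.pairSum_θ hθ hu hv
  have : (fun g => (c g : ℂ)) = (δ : ℂ) • χ := by ext g; simp [D.cast_c]
  rw [e, sum_df_one hl, smul_sub, pairSum_add, pairSum_sub, pairSum_one, ← this] at e1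
  apply Int.cast_injective (α := ℂ)
  split_ifs at e1 ⊢
  · push_cast
    linear_combination c 1 * (c 1 + 1) * e1 - (c 1 + 1) * e2 + c 1 * e3
  · push_cast
    linear_combination c 1 * (c 1 + 1) * e1 - (c 1 + 1) * e2 + c 1 * e3

variable [IsSimpleGroup G]

theorem isConj {s : G} (hs : Inv A s) {u : G} (hu : u * u = 1) (h1 : u ≠ 1) : IsConj s u := by
  have e := D.pair_formula hs hu hs.sq
  by_contra hc
  rw [if_neg (fun h => hc h.1)] at e
  simp only [mul_eq_zero, Nat.cast_eq_zero, index_ne_zero_of_finite, sub_eq_zero, false_or] at e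
  rcases e with e | e
  · exact D.c_ne h1 e.symm
  · exact D.c_ne hs.ne_one e.symm

theorem isConj' {u v : G} (hu : u * u = 1) (h1 : u ≠ 1) (hv : v * v = 1) (h2 : v ≠ 1) :
    IsConj u v := by
  obtain ⟨s, hs⟩ := D.ssc.exists_inv (D.idx ▸ dvd_rfl)
  exact (D.isConj hs hu h1).symm.trans (D.isConj hs hv h2)

theorem order_formula {t : G} (ht : t * t = 1) (h1 : t ≠ 1) : (Nat.card G : ℤ) * (c 1 - c t) ^ 2 =
    Nat.card A * (c 1 * (c 1 + 1)) * (Nat.card (centralizer ({t} : Set G)) : ℤ) ^ 2 := by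
  obtain ⟨s, hs⟩ := D.ssc.exists_inv (D.idx ▸ dvd_rfl)
  have e := D.pair_formula hs ht ht
  rw [if_pos ⟨D.isConj hs ht h1, D.isConj hs ht h1⟩] at e
  have e2 : (Nat.card G : ℤ) = Nat.card (centralizer ({t} : Set G)) *
    (centralizer ({t} : Set G)).index := by exact_mod_cast (card_mul_index _).symm
  have h0 : (Nat.card G : ℤ) ≠ 0 := by exact_mod_cast Nat.card_pos.ne'
  refine mul_left_cancel₀ h0 ?_
  linear_combination (Nat.card (centralizer ({t} : Set G)) : ℤ) ^ 2 * e +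
    (c 1 - c t) ^ 2 * (Nat.card G + Nat.card (centralizer ({t} : Set G)) *
      (centralizer ({t} : Set G)).index) * e2

omit [IsSimpleGroup G] in
theorem coprime_XX : IsCoprime (Nat.card A : ℤ) (c 1 * (c 1 + 1)) := by
  obtain ⟨k, hk⟩ := D.modEq
  have e := D.card
  have e' : (Nat.card A : ℤ) = 2 * Θ.card + 1 := by exact_mod_cast e.symm
  refine IsCoprime.mul_right ⟨-k, 1, by linear_combination hk⟩
    ⟨1 + Θ.card * k, -Θ.card, by linear_combination e' - Θ.card * hk⟩

theorem exists_r {t : G} (ht : t * t = 1) (h1 : t ≠ 1) : ∃ r : ℤ, 0 < r ∧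
    (Nat.card G : ℤ) = r ^ 2 * (Nat.card A * (c 1 * (c 1 + 1))) ∧
    (Nat.card (centralizer ({t} : Set G)) : ℤ) = r * |c 1 - c t| ∧ (Nat.card A : ℤ) ∣ r ^ 2 - 1 := by
  obtain ⟨m, hm⟩ : (Nat.card A : ℤ) * (c 1 * (c 1 + 1)) ∣ Nat.card G :=
    D.coprime_XX.mul_dvd (Int.natCast_dvd_natCast.2 (card_subgroup_dvd_card A))
      (IsCoprime.mul_dvd ⟨-1, 1, by ring⟩ D.X_dvd D.X_dvd')
  have e := D.order_formula ht h1
  have hn : (0 : ℤ) < Nat.card A := by exact_mod_cast Nat.card_pos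
  have hC : (0 : ℤ) < Nat.card (centralizer ({t} : Set G)) := by exact_mod_cast Nat.card_pos
  have h0 := (mul_pos hn D.XX_pos).ne'
  have e1 : m * (c 1 - c t) ^ 2 = (Nat.card (centralizer ({t} : Set G)) : ℤ) ^ 2 :=
    mul_left_cancel₀ h0 (by rw [← e, hm]; ring)
  obtain ⟨r, hr⟩ : |c 1 - c t| ∣ (Nat.card (centralizer ({t} : Set G)) : ℤ) :=
    (abs_dvd _ _).2 ((Int.pow_dvd_pow_iff two_ne_zero).1 (Dvd.intro_left _ e1))
  have ha : 0 < |c 1 - c t| := abs_pos.2 (sub_ne_zero.2 (D.c_ne h1).symm)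
  have hm' : m = r ^ 2 := by
    refine mul_left_cancel₀ (pow_pos ha 2).ne' ?_
    rw [← mul_pow, ← hr, ← e1, sq_abs, mul_comm]
  refine ⟨r, (pos_iff_pos_of_mul_pos (hr ▸ hC)).1 ha, by rw [hm, hm', mul_comm],
    by rw [hr, mul_comm], ?_⟩
  have e2 := Nat.modEq_iff_dvd.1 D.ssc.index_modEq
  have e3 : (Nat.card G : ℤ) = 2 * Nat.card A * (normalizer (A : Set G)).index := by
    rw [← (normalizer (A : Set G)).card_mul_index, card_normalizer, D.idx]; push_cast; ring
  have e4 : 2 * ((normalizer (A : Set G)).index : ℤ) = r ^ 2 * (c 1 * (c 1 + 1)) :=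
    mul_left_cancel₀ hn.ne' (by rw [← hm']; linear_combination hm - e3)
  obtain ⟨k, hk⟩ := D.modEq
  obtain ⟨l, hl⟩ := e2
  have e5 : (Nat.card A : ℤ) = 2 * Θ.card + 1 := by exact_mod_cast D.card.symm
  have : (Nat.card A : ℤ) ∣ (r ^ 2 - 1) * 2 :=
    ⟨-2 * l - r ^ 2 * k * (c 1 + 2), by
      push_cast at hl
      linear_combination -e4 - 2 * hl - r ^ 2 * (c 1 + 2) * hk⟩
  exact IsCoprime.dvd_of_dvd_mul_right ⟨1, -Θ.card, by linear_combination e5⟩ this

omit [IsSimpleGroup G] in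
theorem inner_off {β θ : G → ℂ} (hβ : ∀ g, Cl A g → β g = 0) (hθ : θ ∈ Θ) :
    classInner β θ = classInner β χ + δ * classInner β (fun _ => 1) := by
  simp only [classInner]
  rw [mul_left_comm, ← mul_add, Finset.mul_sum _ _ (δ : ℂ), ← Finset.sum_add_distrib]
  congr 1
  refine Finset.sum_congr rfl fun g _ => ?_
  by_cases hg : Cl A g
  · simp [hβ g hg]
  · rw [D.off hθ hg, D.hc]; simp; ring

omit [IsSimpleGroup G] in
/-- `c` is constant on any other strongly self-centralizing subgroup. -/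
theorem exists_const {B : Subgroup G} (hB : SSC B) (hd : ∀ g, Cl A g → ¬ Cl B g) (hB1 : B ≠ ⊥) :
    ∃ z : ℤ, (∀ g, Cl B g → c g = z) ∧ (Nat.card B : ℤ) ∣ c 1 - z := by
  classical
  have := Fintype.ofFinite B
  obtain ⟨⟨b, hb⟩, hb1⟩ := ne_bot_iff_exists_ne_one.1 hB1
  obtain ⟨m0, hm0⟩ := exists_monoidHom_apply_ne_one_of_comm hB.comm' hb1
  have hm0 : m0 ≠ 1 := fun h => hm0 (by rw [h]; rfl)
  obtain ⟨d, hd'⟩ := (D.irr.isCharacter.res B).exists_nat_classInner
    (isIrrCharacter_monoidHom m0).isCharacter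
  obtain ⟨k1, k2⟩ := const_of_classInner hB.comm' (fun a : B => χ a) d fun mu hm => by
    have hg := isGeneralizedCharacter_indFun (df_gen mu m0)
    obtain ⟨N, hN⟩ := hg.exists_int_classInner hg
    obtain ⟨z, hz⟩ := hg.exists_int_classInner D.irr.isGeneralizedCharacter
    have h1 : classInner (indFun B (df mu m0)) (fun _ => 1) = 0 := by
      have e1 := classInner_monoidHom mu 1
      have e2 := classInner_monoidHom m0 1
      simp only [MonoidHom.one_apply, Units.val_one] at e1 e2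
      rw [classInner_indFun_const, df, classInner_sub_left, e1, e2, if_neg hm, if_neg hm0, sub_zero]
    have h2 : ∀ θ ∈ Θ, classInner (indFun B (df mu m0)) θ = z := fun θ hθ => by
      rw [D.inner_off (fun g hg => ind_eq_zero (df_one _ _) (hd g hg)) hθ, h1, hz]; simp
    obtain ⟨θ₁, h₁, θ₂, h₂, hne⟩ := D.exists_pair
    have h3 := three_mul_sq_le D.irr (D.irrθ _ h₁) (D.irrθ _ h₂) (D.θ_ne _ h₁).symm
      (D.θ_ne _ h₂).symm hne hz (h2 _ h₁) (h2 _ h₂) hN
    have h4 := hB.norm_df_le hm hm0 hN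
    have h5 : z = 0 := by nlinarith
    rw [hg.classInner_comm D.irr.isGeneralizedCharacter, classInner_indFun_right B _
      D.irr.isClassFunction, df, classInner_sub_right, hd', h5] at hz
    simpa [sub_eq_zero] using hz
  have e0 := k1 _ hb1
  refine ⟨c b, ?_, δ * d, ?_⟩
  · rintro g ⟨hg, x, hx⟩
    have e := k1 ⟨_, hx⟩ (fun h2 => conj_ne_one hg x (congrArg Subtype.val h2))
    simp only [D.irr.isClassFunction.apply_conj] at e
    have : (c g : ℂ) = c b := by rw [D.cast_c, D.cast_c, e, ← e0]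
    exact_mod_cast this
  · rw [← e0] at k2
    have : (c 1 : ℂ) - c b = Nat.card B * (δ * d) := by
      rw [D.cast_c, D.cast_c]
      simp only [OneMemClass.coe_one] at k2
      rw [k2]; ring
    exact_mod_cast this

end Two

end Cfsg.Lib.SCS
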