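import Cfsg.Agent.SCS.Ind
import Cfsg.Agent.Cls2.Exc
import Cfsg.Agent.Char.Galois

/-!
# Exceptional characters of a strongly self-centralizing subgroup with automizer of order two
-/

set_option autoImplicit false

namespace Cfsg.Lib.SCS

open Cfsg Subgroup Cfsg.Lib.Char SSC
open scoped ComplexConjugate

variable {G : Type*} [Group G] [Fintype G]

/-- The exceptional character data: `δ χ = c` is integer valued. -/
structure Two (A : Subgroup G) (χ : G → ℂ) (δ : ℤ) (c : G → ℤ) (Θ : Finset (G → ℂ)) : Prop where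
  ssc : SSC A
  idx : A.relIndex (normalizer (A : Set G)) = 2
  five : 5 ≤ Nat.card A
  hδ : δ = 1 ∨ δ = -1
  irr : IsIrrCharacter G χ
  ne_one : χ ≠ fun _ => 1
  hc : ∀ g, χ g = δ * c g
  irrθ : ∀ θ ∈ Θ, IsIrrCharacter G θ
  θ_ne_one : ∀ θ ∈ Θ, θ ≠ fun _ => 1
  θ_ne : ∀ θ ∈ Θ, θ ≠ χ
  card : 2 * Θ.card + 1 = Nat.card A
  on : ∀ g, Cl A g → c g = 1
  modEq : (Nat.card A : ℤ) ∣ c 1 - 1
  ind : ∀ θ ∈ Θ, ∃ lam : A →* ℂˣ, lam ≠ 1 ∧
    indFun A (df 1 lam) = (fun _ => 1) + (δ : ℂ) • (χ - θ)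

namespace SSC

variable {A : Subgroup G}

theorem ind_inv {s : G} (hs : Inv A s) (lam : A →* ℂˣ) :
    indFun A (df 1 lam⁻¹) = indFun A (df 1 lam) := by
  refine indFun_conj_subgroup s A A (mem_normalizer_iff.1 hs.mem) _ _ fun a => ?_
  have : (⟨s * a * s⁻¹, (mem_normalizer_iff.1 hs.mem a).1 a.2⟩ : A) = a⁻¹ :=
    Subtype.ext (hs.inv a a.2)
  rw [this]
  simp [df]

theorem inner_two (h : SSC A) (he : A.relIndex (normalizer (A : Set G)) = 2) {lam mu : A →* ℂˣ}
    (hl : lam ≠ 1) (hm : mu ≠ 1) (h1 : lam ≠ mu) (h2 : lam ≠ mu⁻¹) :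
    classInner (indFun A (df 1 lam)) (indFun A (df 1 mu)) = 2 := by
  classical
  have := Fintype.ofFinite (normalizer (A : Set G))
  have e := h.inner_df 1 lam 1 mu
  have z : ∀ (p : normalizer (A : Set G) → Prop) (i : DecidablePred p), (∀ x, ¬ p x) →
      (Finset.univ.filter p).card = 0 := fun p i hp => by simp [hp]
  have z' : ∀ (p : normalizer (A : Set G) → Prop) (i : DecidablePred p), (∀ x, p x) →
      (Finset.univ.filter p).card = Nat.card (normalizer (A : Set G)) := fun p i hp => by simp [hp]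
  rw [z' _ _ (fun x => (cj_eq_one.2 rfl).symm), z _ _ (fun x h2 => hm (cj_eq_one.1 h2.symm)),
    z _ _ (fun x h2 => hl (h2.trans (cj_eq_one.2 rfl))), z, card_normalizer, he] at e
  · refine mul_left_cancel₀ (card_ne_zero A) ?_
    rw [e]; push_cast; ring
  · intro x h3
    by_cases hx : (x : G) ∈ A
    · exact h1 (h3.trans ((h.cj_eq_iff hm).2 hx).symm)
    · refine h2 (h3.trans (MonoidHom.ext fun a => ?_))
      have hxx : (x : G) * x ∈ A := by
        have := (A.subgroupOf (normalizer (A : Set G))).mul_self_mem_of_index_two he x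
        exact this
      have : A.normalizerMonoidHom x a = a⁻¹ := Subtype.ext (h.inverts x.2 hx hxx a.2)
      change mu (A.normalizerMonoidHom x a) = _
      rw [this]; simp

theorem inner_ind_one {lam : A →* ℂˣ} (hl : lam ≠ 1) :
    classInner (indFun A (df 1 lam)) (fun _ => 1) = 1 := by
  have := Fintype.ofFinite A
  rw [classInner_indFun_const, inner_df_one_one hl]

theorem decomp (h : SSC A) (he : A.relIndex (normalizer (A : Set G)) = 2) {lam : A →* ℂˣ}
    (hl : lam ≠ 1) : ∃ ξ η : G → ℂ, IsIrrCharacter G ξ ∧ IsIrrCharacter G η ∧ ξ ≠ η ∧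
      (ξ ≠ fun _ => 1) ∧ (η ≠ fun _ => 1) ∧ indFun A (df 1 lam) = (fun _ => 1) + (ξ - η) := by
  obtain ⟨g1, g2, g3⟩ := peel_irr (isGeneralizedCharacter_indFun (df_gen 1 lam)) isIrrCharacter_one
    (ε := 1) (Or.inl rfl) (inner_ind_one hl)
  rw [h.norm_df_one hl, he, one_smul] at g2
  rw [one_smul] at g1 g3
  obtain ⟨ξ, η, ε, δ, hξ, hη, hne, hε, hδ, e⟩ := exists_eq_of_norm_two g1 (by rw [g2]; norm_num)
  have e1 := congrFun e 1
  obtain ⟨a, ha, ha'⟩ := hξ.exists_nat_degree_pos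
  obtain ⟨b, hb, hb'⟩ := hη.exists_nat_degree_pos
  simp only [Pi.sub_apply, indFun_one, df_one, mul_zero, Pi.add_apply, Pi.smul_apply, ha', hb',
    smul_eq_mul] at e1
  rw [e, classInner_add_left, classInner_smul_left, classInner_smul_left] at g3
  have n1 : ξ ≠ fun _ => 1 := by
    rintro rfl
    rw [classInner_one_one, hη.classInner_of_ne isIrrCharacter_one hne.symm] at g3
    rcases hε with rfl | rfl <;> simp at g3
  have n2 : η ≠ fun _ => 1 := by
    rintro rfl
    rw [classInner_one_one, hξ.classInner_of_ne isIrrCharacter_one hne] at g3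
    rcases hδ with rfl | rfl <;> simp at g3
  rw [sub_eq_iff_eq_add'] at e
  rcases hε with rfl | rfl <;> rcases hδ with rfl | rfl
  · exfalso
    have : (0 : ℤ) - 1 = 1 * a + 1 * b := by exact_mod_cast e1
    omega
  · exact ⟨ξ, η, hξ, hη, hne, n1, n2, by rw [e]; ext; simp; ring⟩
  · exact ⟨η, ξ, hη, hξ, hne.symm, n2, n1, by rw [e]; ext; simp; ring⟩
  · exfalso
    have : (0 : ℤ) - 1 = -1 * a + -1 * b := by exact_mod_cast e1
    omega

theorem inner_sub_self {ξ η : G → ℂ} (hξ : IsIrrCharacter G ξ) (hη : IsIrrCharacter G η)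
    (hne : ξ ≠ η) : classInner (ξ - η) (ξ - η) = 2 := by
  rw [classInner_sub_left, classInner_sub_right, classInner_sub_right, hξ.classInner_self,
    hη.classInner_self, hξ.classInner_of_ne hη hne, hη.classInner_of_ne hξ hne.symm]
  norm_num

theorem exists_common (h : SSC A) (he : A.relIndex (normalizer (A : Set G)) = 2)
    (h5 : 5 ≤ Nat.card A) : ∃ (χ : G → ℂ) (δ : ℤ) (θ : (A →* ℂˣ) → G → ℂ), (δ = 1 ∨ δ = -1) ∧
      IsIrrCharacter G χ ∧ (χ ≠ fun _ => 1) ∧ ∀ lam, lam ≠ 1 → IsIrrCharacter G (θ lam) ∧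
        (θ lam ≠ fun _ => 1) ∧ θ lam ≠ χ ∧
        indFun A (df 1 lam) = (fun _ => 1) + (δ : ℂ) • (χ - θ lam) := by
  classical
  obtain ⟨s, hs⟩ := h.exists_inv (he ▸ dvd_rfl)
  choose! ξ η hξ hη hne n1 n2 e using fun lam hl => h.decomp he (lam := lam) hl
  have hcj : ∀ lam mu, lam ≠ 1 → mu ≠ 1 → (lam = mu ∨ lam = mu⁻¹) → ξ lam = ξ mu ∧ η lam = η mu := by
    rintro lam mu hl hm (rfl | rfl)
    · exact ⟨rfl, rfl⟩
    · refine Cls2.eq_of_classInner_sub_eq_two (hξ _ hl) (hη _ hl) (hξ _ hm) (hη _ hm) ?_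
      have := (e _ hl).symm.trans ((ind_inv hs mu).trans (e _ hm))
      rw [add_left_cancel this, inner_sub_self (hξ _ hm) (hη _ hm) (hne _ hm)]
  have hdi : ∀ lam mu, lam ≠ 1 → mu ≠ 1 → ¬ (lam = mu ∨ lam = mu⁻¹) →
      (ξ lam = ξ mu ∧ η lam ≠ η mu) ∨ (ξ lam ≠ ξ mu ∧ η lam = η mu) := by
    intro lam mu hl hm hn
    push Not at hn
    refine eq_or_eq_of_classInner_sub_eq_one (hξ _ hl) (hη _ hl) (hξ _ hm) (hη _ hm) (hne _ hl)
      (hne _ hm) ?_
    have e2 := h.inner_two he hl hm hn.1 hn.2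
    have e3 := inner_ind_one hl
    have e4 := inner_ind_one hm
    rw [eq_sub_iff_add_eq'.2 (e _ hl).symm, eq_sub_iff_add_eq'.2 (e _ hm).symm, classInner_sub_left,
      classInner_sub_right, classInner_sub_right, e2, e3, ← conj_classInner (indFun A (df 1 mu)), e4,
      classInner_one_one]
    norm_num
  have := Fintype.ofFinite (A →* ℂˣ)
  have hcard : Fintype.card (A →* ℂˣ) = Nat.card A := by
    rw [← Nat.card_eq_fintype_card, card_monoidHom_units_of_comm h.comm']
  obtain ⟨l0, hl0⟩ : ∃ l0 : A →* ℂˣ, l0 ≠ 1 := by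
    have : Nontrivial (A →* ℂˣ) := Fintype.one_lt_card_iff_nontrivial.1 (by omega)
    exact exists_ne 1
  obtain ⟨m0, hm0, hm1⟩ : ∃ m0 : A →* ℂˣ, m0 ≠ 1 ∧ ¬ (m0 = l0 ∨ m0 = l0⁻¹) := by
    by_contra hc
    push Not at hc
    have : (Finset.univ : Finset (A →* ℂˣ)) ⊆ {1, l0, l0⁻¹} := fun v _ => by
      by_cases h1 : v = 1
      · simp [h1]
      · simp [hc v h1]
    have h3 := Finset.card_le_card this
    have := Finset.card_le_three (a := (1 : A →* ℂˣ)) (b := l0) (c := l0⁻¹)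
    rw [Finset.card_univ] at h3
    omega
  rcases hdi m0 l0 hm0 hl0 hm1 with ⟨a1, a2⟩ | ⟨a1, a2⟩
  · have : ∀ lam, lam ≠ 1 → ξ lam = ξ l0 := fun lam hl => by
      by_contra hc
      rcases hdi lam l0 hl hl0 (fun h3 => hc (hcj _ _ hl hl0 h3).1) with b | b
      · exact hc b.1
      rcases hdi lam m0 hl hm0 (fun h3 => hc ((hcj _ _ hl hm0 h3).1.trans a1)) with d | d
      · exact hc (d.1.trans a1)
      · exact a2 (d.2.symm.trans b.2)
    exact ⟨ξ l0, 1, η, Or.inl rfl, hξ _ hl0, n1 _ hl0, fun lam hl => ⟨hη _ hl, n2 _ hl,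
      this lam hl ▸ (hne _ hl).symm, by rw [e _ hl, this lam hl]; simp⟩⟩
  · have : ∀ lam, lam ≠ 1 → η lam = η l0 := fun lam hl => by
      by_contra hc
      rcases hdi lam l0 hl hl0 (fun h3 => hc (hcj _ _ hl hl0 h3).2) with b | b
      swap
      · exact hc b.2
      rcases hdi lam m0 hl hm0 (fun h3 => hc ((hcj _ _ hl hm0 h3).2.trans a2)) with d | d
      · exact a1 (d.1.symm.trans b.1)
      · exact hc (d.2.trans a2)
    exact ⟨η l0, -1, ξ, Or.inr rfl, hη _ hl0, n2 _ hl0, fun lam hl => ⟨hξ _ hl, n1 _ hl,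
      this lam hl ▸ hne _ hl, by rw [e _ hl, this lam hl]; simp⟩⟩

theorem exists_two (h : SSC A) (he : A.relIndex (normalizer (A : Set G)) = 2)
    (h5 : 5 ≤ Nat.card A) : ∃ χ δ c Θ, Two A χ δ c Θ := by
  classical
  obtain ⟨s, hs⟩ := h.exists_inv (he ▸ dvd_rfl)
  have ho := h.odd_card (he ▸ dvd_rfl)
  obtain ⟨χ, δ, θ, hδ, hχ, h1, hθ⟩ := h.exists_common he h5
  have hδ0 : (δ : ℂ) ≠ 0 := by rcases hδ with rfl | rfl <;> simp
  have hδ2 : (δ : ℂ) * δ = 1 := by rcases hδ with rfl | rfl <;> simp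
  have := Fintype.ofFinite (A →* ℂˣ)
  have := Fintype.ofFinite A
  have hcard : Fintype.card (A →* ℂˣ) = Nat.card A := by
    rw [← Nat.card_eq_fintype_card, card_monoidHom_units_of_comm h.comm']
  obtain ⟨l0, hl0⟩ : ∃ l0 : A →* ℂˣ, l0 ≠ 1 := by
    have : Nontrivial (A →* ℂˣ) := Fintype.one_lt_card_iff_nontrivial.1 (by omega)
    exact exists_ne 1
  have hint : ∀ g, ∃ z : ℤ, χ g = δ * z := by
    intro g
    obtain ⟨z, hz⟩ := exists_int_of_forall_ringEquiv (hχ.isGeneralizedCharacter.isIntegral g)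
      fun σ => by
        let l1 : A →* ℂˣ := (Units.map (σ : ℂ →* ℂ)).comp l0
        have hl1 : l1 ≠ 1 := fun h2 => hl0 (MonoidHom.ext fun a => Units.ext (σ.injective (by
          have := congrArg Units.val (DFunLike.congr_fun h2 a)
          simpa [l1] using this)))
        have e1 := indFun_ringHom A (σ : ℂ →+* ℂ) (df 1 l0)
        have e2 : (fun a => (σ : ℂ →+* ℂ) (df 1 l0 a)) = df 1 l1 := by ext a; simp [df, l1]
        rw [e2, (hθ _ hl1).2.2.2, (hθ _ hl0).2.2.2] at e1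
        have e3 : (fun g => σ (χ g)) - (fun g => σ (θ l0 g)) = χ - θ l1 := by
          ext g
          have := congrFun e1 g
          simp only [Pi.add_apply, Pi.smul_apply, Pi.sub_apply, smul_eq_mul, RingHom.coe_coe, map_add,
            map_one, map_mul, map_intCast, map_sub, add_right_inj] at this
          exact (mul_left_cancel₀ hδ0 this).symm
        exact congrFun (Cls2.eq_of_classInner_sub_eq_two (hχ.ringEquiv_comp σ)
          ((hθ _ hl0).1.ringEquiv_comp σ) hχ (hθ _ hl1).1 (by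
            rw [e3, inner_sub_self hχ (hθ _ hl1).1 (hθ _ hl1).2.2.1.symm])).1 g
    exact ⟨δ * z, by rw [hz]; push_cast; rw [← mul_assoc, hδ2, one_mul]⟩
  choose c hc using hint
  obtain ⟨d, hd⟩ := (hχ.isCharacter.res A).exists_nat_classInner isCharacter_one
  obtain ⟨k1, k2⟩ := const_of_classInner h.comm' (fun a : A => χ a) (d - δ) fun lam hl => by
    have e := classInner_indFun_right A (df 1 lam) hχ.isClassFunction
    rw [(hθ _ hl).2.2.2, classInner_add_right, classInner_smul_right, classInner_sub_right,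
      hχ.classInner_self, hχ.classInner_of_ne isIrrCharacter_one h1,
      hχ.classInner_of_ne (hθ _ hl).1 (hθ _ hl).2.2.1.symm, df, classInner_sub_right] at e
    simp only [MonoidHom.one_apply, Units.val_one, hd, map_intCast] at e
    linear_combination e
  rw [hd] at k1 k2
  have hne : ∀ lam : A →* ℂˣ, lam ≠ 1 → lam ≠ lam⁻¹ := fun lam hl h2 => hl (MonoidHom.ext fun a => by
    obtain ⟨k, hk⟩ := ho
    have e1 : lam a ^ 2 = 1 := by
      have := DFunLike.congr_fun h2 a
      rw [MonoidHom.inv_apply] at this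
      rw [pow_two]; nth_rewrite 1 [this]; simp
    have e2 : lam a ^ Nat.card A = 1 := by rw [← map_pow, pow_card_eq_one', map_one]
    rwa [hk, pow_succ, pow_mul, e1, one_pow, one_mul] at e2)
  refine ⟨χ, δ, c, (Finset.univ.erase 1).image θ, h, he, h5, hδ, hχ, h1, hc, ?_, ?_, ?_, ?_, ?_, ?_,
    ?_⟩
  · intro _ hm
    obtain ⟨lam, hl, rfl⟩ := Finset.mem_image.1 hm
    exact (hθ _ (Finset.mem_erase.1 hl).1).1
  · intro _ hm
    obtain ⟨lam, hl, rfl⟩ := Finset.mem_image.1 hm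
    exact (hθ _ (Finset.mem_erase.1 hl).1).2.1
  · intro _ hm
    obtain ⟨lam, hl, rfl⟩ := Finset.mem_image.1 hm
    exact (hθ _ (Finset.mem_erase.1 hl).1).2.2.1
  · have e := Finset.card_eq_sum_card_image θ (Finset.univ.erase 1)
    rw [Finset.card_erase_of_mem (Finset.mem_univ _), Finset.card_univ, hcard,
      Finset.sum_congr rfl (g := fun _ => 2), Finset.sum_const, smul_eq_mul] at e
    · omega
    intro _ hm
    obtain ⟨lam, hl, rfl⟩ := Finset.mem_image.1 hm
    have hl := (Finset.mem_erase.1 hl).1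
    rw [← Finset.card_pair (hne lam hl)]
    congr 1
    ext mu
    simp only [Finset.mem_filter, Finset.mem_erase, Finset.mem_univ, and_true, Finset.mem_insert,
      Finset.mem_singleton]
    constructor
    · rintro ⟨hm, e⟩
      by_contra hc
      push Not at hc
      have e2 := h.inner_two he hm hl hc.1 hc.2
      rw [(hθ _ hm).2.2.2, e, ← (hθ _ hl).2.2.2, h.norm_df_one hl, he] at e2
      norm_num at e2
    · rintro (rfl | rfl)
      · exact ⟨hl, rfl⟩
      · have hl' : lam⁻¹ ≠ 1 := Cls2.ExcData.inv_ne_one' hl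
        refine ⟨hl', ?_⟩
        have := (hθ _ hl').2.2.2.symm.trans ((ind_inv hs lam).trans (hθ _ hl).2.2.2)
        exact sub_right_injective (smul_right_injective _ hδ0 (add_left_cancel this))
  · rintro g ⟨hg, x, hx⟩
    have e := k1 ⟨_, hx⟩ (fun h2 => conj_ne_one hg x (congrArg Subtype.val h2))
    simp only [hχ.isClassFunction.apply_conj, hc g] at e
    have : (c g : ℂ) = 1 := mul_left_cancel₀ hδ0 (by linear_combination e)
    exact_mod_cast this
  · refine ⟨δ * (d - δ), ?_⟩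
    simp only [OneMemClass.coe_one, hc 1] at k2
    have : (c 1 : ℂ) - 1 = Nat.card A * (δ * (d - δ)) := by
      linear_combination δ * k2 - (c 1 - 1) * hδ2
    exact_mod_cast this
  · intro _ hm
    obtain ⟨lam, hl, rfl⟩ := Finset.mem_image.1 hm
    exact ⟨lam, (Finset.mem_erase.1 hl).1, (hθ _ (Finset.mem_erase.1 hl).1).2.2.2⟩

end SSC

end Cfsg.Lib.SCS
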